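/-
Generalities for bounding stem extensions of the presented sporadic Suzuki group.
-/
import Cfsg.Agent.Lib.CosetEnum.Sub
import Cfsg.Prelude.Def_KGroupFacts

set_option autoImplicit false

namespace CfsgLib.SuzMult

open CfsgLib.CosetEnum
open scoped commutatorElement

theorem prod_map {M M' : Type*} [Monoid M] [Monoid M'] (f : M →* M') (τ : ℕ → M) (σ : ℕ → M') (w : List ℕ)
    (h : ∀ x ∈ w, f (τ x) = σ x) : f (w.map τ).prod = (w.map σ).prod := by
  rw [map_list_prod, List.map_map]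
  exact congrArg List.prod (List.map_congr_left fun x hx => h x hx)

theorem closure_comm {Γ G : Type*} [Group Γ] [Group G] (φ : Γ →* G) (hc : φ.ker ≤ Subgroup.center Γ)
    {S : Subgroup Γ} (hmap : S.map φ = ⊤) : commutator Γ ≤ ⁅S, S⁆ := by
  have hsup : ∀ g : Γ, ∃ s ∈ S, ∃ k ∈ φ.ker, g = s * k := fun g => by
    obtain ⟨s, hs', e⟩ := (hmap.symm ▸ Subgroup.mem_top (φ g) : φ g ∈ S.map φ)
    refine ⟨s, hs', s⁻¹ * g, ?_, by group⟩
    rw [MonoidHom.mem_ker, map_mul, map_inv, e, inv_mul_cancel]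
  rw [commutator_def, Subgroup.commutator_le]
  intro g _ h _
  obtain ⟨s, hs', k, hk, rfl⟩ := hsup g
  obtain ⟨t, ht, l, hl, rfl⟩ := hsup h
  have hkc := Subgroup.mem_center_iff.mp (hc hk)
  have hlc := Subgroup.mem_center_iff.mp (hc hl)
  have e : ⁅s * k, t * l⁆ = ⁅s, t⁆ := by
    simp only [commutatorElement_def]
    calc s * k * (t * l) * (s * k)⁻¹ * (t * l)⁻¹ = s * (k * (t * l)) * k⁻¹ * s⁻¹ * (t * l)⁻¹ := by group
      _ = s * (t * l * k) * k⁻¹ * s⁻¹ * (t * l)⁻¹ := by rw [hkc (t * l)]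
      _ = s * t * (l * s⁻¹) * (t * l)⁻¹ := by group
      _ = s * t * (s⁻¹ * l) * (t * l)⁻¹ := by rw [hlc s⁻¹]
      _ = s * t * s⁻¹ * t⁻¹ := by group
  rw [e]
  exact Subgroup.commutator_mem_commutator hs' ht

theorem eq_top_of_map {Γ G : Type*} [Group Γ] [Group G] (φ : Γ →* G) (hc : φ.ker ≤ Subgroup.center Γ)
    (hcomm : φ.ker ≤ commutator Γ) {S : Subgroup Γ} (hmap : S.map φ = ⊤) : S = ⊤ := by
  have hle : commutator Γ ≤ S := (closure_comm φ hc hmap).trans (Subgroup.commutator_le_self S)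
  rw [eq_top_iff]
  intro g _
  obtain ⟨s, hs', e⟩ := (hmap.symm ▸ Subgroup.mem_top (φ g) : φ g ∈ S.map φ)
  have hk : s⁻¹ * g ∈ φ.ker := by rw [MonoidHom.mem_ker, map_mul, map_inv, e, inv_mul_cancel]
  simpa using mul_mem hs' (hle (hcomm hk))

theorem card_comm {Γ : Type*} [Group Γ] {u v k : Γ} (hu : u * u = 1) (hv : v * v = 1)
    (hk : k ∈ Subgroup.center Γ) {n : ℕ} (h : (u * v) ^ n = k) : k * k = 1 := by
  have h1 : (v * u) ^ n = k := by
    have e : v * u = u * (u * v) * u⁻¹ := by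
      rw [inv_eq_of_mul_eq_one_right hu, ← mul_assoc u u v, hu, one_mul]
    rw [e, conj_pow, h, Subgroup.mem_center_iff.mp hk, mul_inv_cancel_right]
  have h2 : (v * u) ^ n = k⁻¹ := by
    rw [← h, ← inv_pow, mul_inv_rev, inv_eq_of_mul_eq_one_right hu, inv_eq_of_mul_eq_one_right hv]
  nth_rewrite 1 [← h1]
  rw [h2, inv_mul_cancel]

/-- One step of the bound: the first `n` elements generate at most `S.T.n` cosets of the first `m`. -/
theorem step {Γ : Type} [Group Γ] (τ : ℕ → Γ) (hτ : ∀ x, τ x * τ x = 1) (S : Sheet) {m n : ℕ} (hk : S.D.k = n)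
    (hhw : S.hw = (List.range m).map fun i => [i]) (hmn : m ≤ n)
    (hlet : (S.rels.all fun w => w.all fun x => decide (x < n)) = true)
    (hrels : ∀ w ∈ S.rels, (w.map τ).prod = 1) {N : ℕ}
    (hT : Finite (Subgroup.closure (τ '' Set.Iio m)) ∧ Nat.card (Subgroup.closure (τ '' Set.Iio m)) ≤ N) :
    Finite (Subgroup.closure (τ '' Set.Iio n)) ∧ Nat.card (Subgroup.closure (τ '' Set.Iio n)) ≤ S.T.n * N := by
  let τ' : ℕ → Γ := fun x => if x < n then τ x else 1
  have hsq : ∀ x, τ' x * τ' x = 1 := fun x => by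
    show (if x < n then τ x else 1) * (if x < n then τ x else 1) = 1
    split_ifs
    · exact hτ x
    · exact one_mul 1
  have hr : ∀ w ∈ S.rels, (w.map τ').prod = 1 := fun w hw => by
    rw [show w.map τ' = w.map τ from List.map_congr_left fun x hx =>
      if_pos (of_decide_eq_true (List.all_eq_true.mp (List.all_eq_true.mp hlet w hw) x hx))]
    exact hrels w hw
  have e1 : τ' '' Set.Iio n = τ '' Set.Iio n := Set.image_congr fun x hx => if_pos hx
  have e2 : wordsSub τ' S.hw = Subgroup.closure (τ '' Set.Iio m) := by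
    show Subgroup.closure _ = Subgroup.closure _
    congr 1
    ext g
    constructor
    · rintro ⟨w, hw, rfl⟩
      rw [hhw, List.mem_map] at hw
      obtain ⟨i, hi, rfl⟩ := hw
      rw [List.mem_range] at hi
      exact ⟨i, hi, by simp [τ', lt_of_lt_of_le hi hmn]⟩
    · rintro ⟨i, hi, rfl⟩
      rw [Set.mem_Iio] at hi
      exact ⟨[i], by rw [hhw]; exact List.mem_map.mpr ⟨i, List.mem_range.mpr hi, rfl⟩,
        by simp [τ', lt_of_lt_of_le hi hmn]⟩
  have h := S.card_le τ' hsq (by rw [hk]; exact if_neg (lt_irrefl n)) hr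
    (by rw [e2, hk, e1]; exact Subgroup.closure_mono (Set.image_mono (Set.Iio_subset_Iio hmn))) (e2.symm ▸ hT)
  rw [hk, e1] at h
  exact h

end CfsgLib.SuzMult
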