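/-
Matrices for the sixfold cover of the sporadic Suzuki group: twelve-dimensional over three and over four elements.
-/
import Cfsg.Agent.Lib.G24.Field

set_option autoImplicit false
set_option maxRecDepth 100000

namespace CfsgLib.SuzMult

open CfsgLib.G24

/-- The matrices over three elements. -/
def mats3 : List (List (List (ZMod 3))) := [
  [[2, 0, 0, 0, 0, 2, 2, 2, 2, 0, 1, 1],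
    [0, 2, 0, 0, 1, 0, 0, 2, 2, 1, 2, 0],
    [0, 0, 2, 0, 2, 0, 2, 2, 0, 2, 1, 2],
    [0, 0, 0, 2, 2, 1, 2, 0, 1, 1, 0, 2],
    [1, 1, 1, 1, 0, 0, 0, 0, 2, 1, 1, 2],
    [2, 1, 0, 1, 0, 0, 0, 0, 1, 2, 1, 1],
    [1, 0, 2, 1, 0, 0, 0, 0, 0, 2, 0, 1],
    [1, 2, 1, 1, 0, 0, 0, 0, 1, 2, 0, 2],
    [1, 0, 2, 2, 2, 1, 1, 0, 2, 0, 0, 0],
    [1, 2, 1, 0, 1, 2, 1, 2, 0, 2, 0, 0],
    [0, 1, 2, 1, 1, 1, 0, 0, 0, 0, 2, 0],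
    [2, 2, 0, 1, 1, 2, 0, 2, 0, 0, 0, 2]],
  [[0, 0, 0, 0, 1, 2, 0, 0, 1, 2, 0, 0],
    [0, 0, 0, 0, 1, 1, 0, 0, 1, 1, 0, 0],
    [0, 0, 0, 0, 0, 2, 2, 1, 0, 2, 2, 1],
    [0, 0, 0, 0, 1, 1, 1, 0, 1, 1, 1, 0],
    [1, 1, 0, 0, 2, 0, 0, 0, 1, 0, 0, 0],
    [2, 1, 0, 0, 0, 2, 0, 0, 0, 1, 0, 0],
    [0, 1, 0, 2, 0, 0, 2, 0, 0, 0, 1, 0],
    [2, 2, 2, 2, 0, 0, 0, 2, 0, 0, 0, 1],
    [1, 1, 0, 0, 1, 0, 0, 0, 2, 0, 0, 0],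
    [2, 1, 0, 0, 0, 1, 0, 0, 0, 2, 0, 0],
    [0, 1, 0, 2, 0, 0, 1, 0, 0, 0, 2, 0],
    [2, 2, 2, 2, 0, 0, 0, 1, 0, 0, 0, 2]],
  [[2, 0, 0, 0, 1, 2, 2, 2, 1, 2, 2, 1],
    [0, 2, 0, 0, 0, 2, 1, 0, 2, 2, 2, 0],
    [0, 0, 2, 0, 0, 1, 1, 0, 2, 0, 1, 2],
    [0, 0, 0, 2, 2, 2, 0, 2, 0, 1, 2, 0],
    [2, 1, 1, 1, 2, 0, 0, 0, 0, 1, 0, 1],
    [0, 1, 2, 0, 0, 2, 0, 0, 0, 2, 1, 1],
    [0, 2, 2, 0, 0, 0, 2, 0, 2, 1, 0, 1],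
    [1, 1, 0, 1, 0, 0, 0, 2, 0, 2, 0, 1],
    [1, 1, 1, 2, 2, 0, 1, 0, 0, 0, 0, 0],
    [1, 0, 1, 0, 1, 0, 0, 2, 0, 0, 0, 0],
    [1, 0, 1, 1, 0, 2, 0, 1, 0, 0, 0, 0],
    [0, 2, 1, 2, 1, 0, 0, 1, 0, 0, 0, 0]],
  [[1, 2, 2, 1, 1, 0, 1, 0, 1, 0, 2, 1],
    [1, 2, 1, 2, 2, 0, 2, 2, 1, 0, 2, 2],
    [2, 0, 2, 2, 2, 0, 0, 0, 2, 2, 1, 1],
    [1, 1, 2, 1, 1, 1, 0, 1, 2, 1, 0, 2],
    [0, 0, 1, 0, 0, 1, 1, 1, 1, 1, 2, 2],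
    [2, 2, 2, 2, 1, 2, 1, 2, 0, 2, 2, 0],
    [2, 0, 2, 0, 0, 1, 0, 2, 2, 2, 2, 2],
    [1, 1, 0, 0, 0, 2, 1, 1, 2, 1, 0, 0],
    [0, 2, 1, 0, 1, 0, 1, 1, 1, 0, 2, 2],
    [0, 2, 1, 2, 2, 2, 1, 0, 1, 2, 1, 0],
    [0, 2, 2, 2, 0, 2, 1, 0, 0, 1, 2, 1],
    [1, 2, 0, 1, 1, 2, 0, 0, 2, 2, 0, 1]],
  [[0, 0, 2, 0, 2, 1, 0, 0, 2, 1, 0, 0],
    [0, 2, 0, 0, 1, 1, 0, 1, 1, 1, 0, 1],
    [2, 0, 0, 0, 0, 2, 2, 1, 0, 2, 2, 1],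
    [2, 1, 2, 1, 0, 2, 1, 0, 0, 2, 1, 0],
    [0, 2, 1, 1, 2, 1, 2, 2, 2, 2, 0, 2],
    [2, 2, 1, 1, 2, 0, 0, 2, 2, 2, 1, 0],
    [2, 2, 1, 0, 0, 2, 0, 0, 2, 0, 2, 2],
    [1, 1, 1, 1, 2, 1, 2, 1, 0, 1, 1, 0],
    [0, 2, 1, 1, 2, 2, 0, 2, 2, 1, 2, 2],
    [2, 2, 1, 1, 2, 2, 1, 0, 2, 0, 0, 2],
    [2, 2, 1, 0, 2, 0, 2, 2, 0, 2, 0, 0],
    [1, 1, 1, 1, 0, 1, 1, 0, 2, 1, 2, 1]],
  [[2, 1, 1, 1, 0, 2, 1, 2, 0, 1, 0, 0],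
    [2, 1, 2, 0, 2, 1, 0, 2, 1, 0, 2, 0],
    [2, 0, 0, 2, 1, 1, 1, 0, 0, 1, 0, 1],
    [0, 2, 1, 1, 1, 1, 1, 0, 2, 0, 2, 0],
    [0, 1, 1, 2, 0, 1, 0, 2, 1, 2, 0, 0],
    [0, 0, 0, 0, 0, 1, 0, 0, 0, 0, 0, 0],
    [2, 0, 2, 1, 0, 1, 0, 1, 2, 2, 1, 2],
    [0, 0, 0, 0, 0, 0, 0, 1, 0, 0, 0, 0],
    [2, 2, 1, 2, 1, 0, 2, 2, 2, 0, 1, 2],
    [0, 1, 2, 0, 2, 2, 2, 0, 1, 1, 1, 0],
    [0, 0, 1, 0, 2, 1, 0, 2, 2, 2, 0, 1],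
    [0, 1, 1, 2, 2, 1, 0, 2, 1, 2, 0, 1]],
  [[0, 2, 2, 2, 1, 0, 1, 0, 0, 1, 0, 2],
    [1, 1, 1, 0, 2, 0, 2, 0, 0, 1, 2, 0],
    [1, 0, 2, 1, 2, 2, 1, 0, 0, 1, 0, 0],
    [0, 1, 2, 1, 0, 0, 0, 0, 1, 1, 2, 2],
    [2, 2, 2, 1, 2, 1, 2, 0, 0, 1, 2, 2],
    [1, 2, 0, 1, 2, 1, 2, 0, 1, 0, 2, 0],
    [2, 0, 1, 0, 1, 2, 1, 0, 1, 2, 0, 1],
    [1, 0, 2, 0, 2, 1, 0, 1, 2, 1, 0, 2],
    [1, 2, 2, 2, 2, 1, 0, 0, 0, 0, 2, 1],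
    [2, 1, 0, 0, 1, 2, 0, 0, 2, 1, 2, 0],
    [0, 1, 2, 2, 0, 1, 1, 0, 1, 1, 2, 2],
    [0, 1, 1, 2, 0, 0, 0, 0, 2, 1, 0, 1]]]

/-- The matrices over four elements. -/
def mats4 : List (List (List K)) := [
  [[.i, .o, .o, .o, .o, .o, .o, .o, .o, .o, .o, .o],
    [.o, .i, .o, .o, .o, .o, .o, .o, .o, .o, .o, .o],
    [.o, .o, .i, .o, .o, .o, .o, .o, .o, .o, .o, .o],
    [.o, .o, .o, .i, .o, .o, .o, .o, .o, .o, .o, .o],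
    [.i, .o, .o, .o, .i, .o, .o, .o, .o, .o, .o, .o],
    [.o, .i, .o, .o, .o, .i, .o, .o, .o, .o, .o, .o],
    [.o, .o, .o, .o, .o, .o, .i, .o, .o, .o, .o, .o],
    [.o, .o, .o, .o, .o, .o, .o, .i, .o, .o, .o, .o],
    [.v, .o, .o, .o, .o, .o, .o, .o, .i, .o, .o, .o],
    [.o, .v, .o, .o, .o, .o, .o, .o, .o, .i, .o, .o],
    [.i, .o, .w, .o, .o, .o, .i, .o, .o, .o, .i, .o],
    [.o, .i, .o, .w, .o, .o, .o, .i, .o, .o, .o, .i]],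
  [[.w, .i, .v, .i, .v, .o, .o, .o, .o, .o, .o, .o],
    [.v, .i, .w, .o, .o, .v, .o, .o, .o, .o, .o, .o],
    [.i, .o, .w, .o, .o, .i, .o, .o, .o, .o, .o, .o],
    [.i, .v, .o, .w, .w, .v, .o, .o, .o, .o, .o, .o],
    [.i, .o, .v, .o, .i, .i, .o, .o, .o, .o, .o, .o],
    [.o, .i, .i, .i, .v, .w, .o, .o, .o, .o, .o, .o],
    [.o, .w, .i, .o, .o, .o, .v, .i, .w, .i, .w, .o],
    [.v, .i, .o, .i, .o, .o, .w, .i, .v, .o, .o, .w],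
    [.w, .v, .o, .v, .o, .o, .i, .o, .v, .o, .o, .i],
    [.v, .w, .w, .i, .o, .o, .i, .w, .o, .v, .v, .w],
    [.w, .v, .o, .v, .o, .o, .i, .o, .w, .o, .i, .i],
    [.v, .v, .i, .i, .o, .o, .o, .i, .i, .i, .w, .v]],
  [[.i, .o, .o, .o, .o, .o, .o, .o, .o, .o, .o, .o],
    [.o, .i, .o, .o, .o, .o, .o, .o, .o, .o, .o, .o],
    [.v, .i, .i, .o, .o, .o, .o, .o, .o, .o, .o, .o],
    [.i, .w, .o, .i, .o, .o, .o, .o, .o, .o, .o, .o],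
    [.o, .o, .w, .i, .i, .o, .o, .o, .o, .o, .o, .o],
    [.o, .o, .i, .v, .o, .i, .o, .o, .o, .o, .o, .o],
    [.i, .w, .o, .o, .o, .o, .i, .o, .o, .o, .o, .o],
    [.w, .v, .o, .o, .o, .o, .o, .i, .o, .o, .o, .o],
    [.v, .o, .w, .i, .o, .o, .w, .i, .i, .o, .o, .o],
    [.w, .o, .i, .v, .o, .o, .i, .v, .o, .i, .o, .o],
    [.w, .o, .w, .i, .w, .v, .o, .o, .v, .i, .i, .o],
    [.v, .o, .o, .o, .v, .i, .o, .o, .i, .w, .o, .i]],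
  [[.v, .w, .o, .o, .o, .o, .o, .o, .o, .o, .o, .o],
    [.w, .v, .o, .o, .o, .o, .o, .o, .o, .o, .o, .o],
    [.i, .i, .w, .v, .o, .o, .o, .o, .o, .o, .o, .o],
    [.i, .i, .v, .w, .o, .o, .o, .o, .o, .o, .o, .o],
    [.w, .i, .i, .i, .v, .w, .o, .o, .o, .o, .o, .o],
    [.i, .w, .i, .i, .w, .v, .o, .o, .o, .o, .o, .o],
    [.o, .o, .o, .o, .o, .o, .w, .v, .o, .o, .o, .o],
    [.o, .o, .o, .o, .o, .o, .v, .w, .o, .o, .o, .o],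
    [.o, .o, .o, .o, .o, .o, .i, .i, .v, .w, .o, .o],
    [.o, .o, .o, .o, .o, .o, .i, .i, .w, .v, .o, .o],
    [.o, .o, .o, .o, .o, .o, .v, .i, .i, .i, .w, .v],
    [.o, .o, .o, .o, .o, .o, .i, .v, .i, .i, .v, .w]],
  [[.w, .i, .o, .o, .o, .o, .o, .o, .o, .o, .o, .o],
    [.w, .w, .o, .o, .o, .o, .o, .o, .o, .o, .o, .o],
    [.o, .v, .v, .i, .o, .o, .o, .o, .o, .o, .o, .o],
    [.i, .v, .v, .v, .o, .o, .o, .o, .o, .o, .o, .o],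
    [.o, .v, .v, .v, .w, .i, .o, .o, .o, .o, .o, .o],
    [.w, .o, .i, .o, .w, .w, .o, .o, .o, .o, .o, .o],
    [.o, .o, .o, .o, .o, .o, .v, .i, .o, .o, .o, .o],
    [.o, .o, .o, .o, .o, .o, .v, .v, .o, .o, .o, .o],
    [.o, .o, .o, .o, .o, .o, .o, .w, .w, .i, .o, .o],
    [.o, .o, .o, .o, .o, .o, .i, .w, .w, .w, .o, .o],
    [.o, .o, .o, .o, .o, .o, .o, .w, .w, .w, .v, .i],
    [.o, .o, .o, .o, .o, .o, .v, .o, .i, .o, .v, .v]],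
  [[.i, .o, .o, .o, .o, .o, .o, .o, .o, .o, .o, .o],
    [.o, .i, .o, .o, .o, .o, .o, .o, .o, .o, .o, .o],
    [.o, .o, .i, .o, .o, .o, .o, .o, .o, .o, .o, .o],
    [.o, .o, .o, .i, .o, .o, .o, .o, .o, .o, .o, .o],
    [.w, .o, .o, .o, .i, .o, .o, .o, .o, .o, .o, .o],
    [.o, .w, .o, .o, .o, .i, .o, .o, .o, .o, .o, .o],
    [.o, .o, .o, .o, .o, .o, .i, .o, .o, .o, .o, .o],
    [.o, .o, .o, .o, .o, .o, .o, .i, .o, .o, .o, .o],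
    [.o, .o, .o, .o, .o, .o, .o, .o, .i, .o, .o, .o],
    [.o, .o, .o, .o, .o, .o, .o, .o, .o, .i, .o, .o],
    [.o, .o, .o, .o, .o, .o, .v, .o, .o, .o, .i, .o],
    [.o, .o, .o, .o, .o, .o, .o, .v, .o, .o, .o, .i]],
  [[.i, .o, .o, .o, .o, .o, .o, .o, .o, .o, .o, .o],
    [.o, .i, .o, .o, .o, .o, .o, .o, .o, .o, .o, .o],
    [.v, .i, .v, .o, .o, .o, .i, .o, .o, .o, .o, .o],
    [.i, .v, .o, .v, .o, .o, .o, .i, .o, .o, .o, .o],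
    [.i, .i, .o, .o, .w, .o, .i, .i, .i, .o, .o, .o],
    [.v, .w, .v, .v, .o, .w, .i, .i, .o, .i, .o, .o],
    [.i, .w, .v, .o, .o, .o, .v, .o, .o, .o, .o, .o],
    [.w, .i, .o, .v, .o, .o, .o, .v, .o, .o, .o, .o],
    [.o, .o, .v, .v, .w, .o, .i, .i, .w, .o, .o, .o],
    [.o, .v, .o, .o, .o, .w, .w, .w, .o, .w, .o, .o],
    [.v, .i, .v, .o, .i, .v, .v, .i, .w, .i, .i, .o],
    [.v, .o, .i, .o, .v, .i, .v, .o, .i, .w, .o, .i]]]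

/-- The values of the relators as powers of the value of the triangle word. -/
def relExp : List ℕ := [0, 0, 0, 3, 3, 0, 0, 0, 0, 3, 3, 0, 0, 0, 0, 3, 0, 0, 3, 3, 3, 3, 3, 3, 3, 0, 0, 0, 3, 3, 3, 1, 0]

end CfsgLib.SuzMult
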