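/-
Products of matrices given by lists of rows, evaluated on vectors.
-/
import Mathlib

set_option autoImplicit false

namespace CfsgLib.SuzMult

open Matrix

variable {R : Type} [CommRing R]

/-- The dot product of two lists. -/
def dotR : List R → List R → R
  | a :: as, b :: bs => a * b + dotR as bs
  | _, _ => 0

/-- A list as a vector. -/
def vecR (n : ℕ) (l : List R) : Fin n → R := fun i => l.getD i.val 0

/-- A list of rows as a matrix. -/
def matR (n : ℕ) (M : List (List R)) : Matrix (Fin n) (Fin n) R := fun i j => (M.getD i.val []).getD j.val 0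

/-- A matrix times a vector. -/
def stepR (M : List (List R)) (l : List R) : List R := M.map fun r => dotR r l

/-- A product of matrices times a vector. -/
def runR (Ms : List (List (List R))) (l : List R) : List R := Ms.foldr stepR l

theorem dotR_spec : ∀ (r l : List R), r.length = l.length →
    dotR r l = ∑ i : Fin r.length, r.getD i 0 * l.getD i 0 := by
  intro r
  induction r with
  | nil => intro l _; simp [dotR]
  | cons a as ih =>
    intro l hlen
    match l, hlen with
    | b :: bs, hlen =>
      show a * b + dotR as bs = _
      rw [ih bs (by simpa using hlen)]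
      simp [Fin.sum_univ_succ]

/-- The rows form a square matrix. -/
def okSq (n : ℕ) (M : List (List R)) : Bool := Nat.beq M.length n && M.all fun r => Nat.beq r.length n

theorem stepR_spec {n : ℕ} {M : List (List R)} (h : okSq n M = true) {l : List R} (hl : l.length = n) :
    (stepR M l).length = n ∧ matR n M *ᵥ vecR n l = vecR n (stepR M l) := by
  simp only [okSq, Bool.and_eq_true, List.all_eq_true] at h
  have hM := Nat.eq_of_beq_eq_true h.1
  refine ⟨by simp [stepR, hM], ?_⟩
  funext i
  have hi : i.val < M.length := hM.symm ▸ i.2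
  have hr : (M.getD i.val []).length = n := by
    rw [List.getD_eq_getElem _ _ hi]
    exact Nat.eq_of_beq_eq_true (h.2 _ (List.getElem_mem hi))
  show ∑ j : Fin n, (M.getD i.val []).getD j.val 0 * l.getD j.val 0 = (stepR M l).getD i.val 0
  have e : (stepR M l).getD i.val 0 = dotR (M.getD i.val []) l := by
    rw [List.getD_eq_getElem _ _ (by simpa [stepR] using hi), List.getD_eq_getElem _ _ hi]
    simp [stepR]
  rw [e, dotR_spec _ _ (hr.trans hl.symm)]
  exact (Fintype.sum_equiv (finCongr hr) _ _ fun j => rfl).symm

theorem runR_spec {n : ℕ} : ∀ Ms : List (List (List R)), (∀ M ∈ Ms, okSq n M = true) →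
    ∀ l : List R, l.length = n →
      (runR Ms l).length = n ∧ (Ms.map (matR n)).prod *ᵥ vecR n l = vecR n (runR Ms l) := by
  intro Ms
  induction Ms with
  | nil => intro _ l hl; exact ⟨hl, by simp [runR]⟩
  | cons M Ms ih =>
    intro h l hl
    obtain ⟨h1, h3⟩ := ih (fun X hX => h X (List.mem_cons_of_mem _ hX)) l hl
    obtain ⟨g1, g3⟩ := stepR_spec (h M List.mem_cons_self) h1
    refine ⟨g1, ?_⟩
    rw [List.map_cons, List.prod_cons, ← Matrix.mulVec_mulVec, h3]
    exact g3

/-- A unit vector, scaled. -/
def unitL (n : ℕ) (c : R) (j : ℕ) : List R := (List.range n).map fun i => if j = i then c else 0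

theorem unitL_spec {n : ℕ} (c : R) (j : Fin n) : vecR n (unitL n c j) = c • Pi.single j (1 : R) := by
  funext i
  rw [vecR, unitL, List.getD_eq_getElem _ _ (by simp)]
  rw [Pi.smul_apply, Pi.single_apply, List.getElem_map, List.getElem_range, smul_eq_mul, mul_ite, mul_one, mul_zero]
  rcases eq_or_ne i j with rfl | h
  · rw [if_pos rfl, if_pos rfl]
  · rw [if_neg fun e => h (Fin.ext e.symm), if_neg h]

/-- The matrices are square and their product is the scalar. -/
def okScal [DecidableEq R] (n : ℕ) (Ms : List (List (List R))) (c : R) : Bool :=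
  (Ms.all fun M => okSq n M) && (List.range n).all fun j => decide (runR Ms (unitL n 1 j) = unitL n c j)

theorem prod_eq_scal [DecidableEq R] {n : ℕ} {Ms : List (List (List R))} {c : R} (h : okScal n Ms c = true) :
    (Ms.map (matR n)).prod = c • (1 : Matrix (Fin n) (Fin n) R) := by
  rw [okScal, Bool.and_eq_true, List.all_eq_true, List.all_eq_true] at h
  refine Matrix.ext_of_mulVec_single fun j => ?_
  have hu : (unitL n (1 : R) j).length = n := by simp [unitL]
  have hs := (runR_spec Ms h.1 _ hu).2
  rw [unitL_spec, one_smul, of_decide_eq_true (h.2 j (List.mem_range.mpr j.2)), unitL_spec] at hs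
  rw [hs, Matrix.smul_mulVec, Matrix.one_mulVec]

end CfsgLib.SuzMult
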