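/-
The sixfold cover of the presented sporadic Suzuki group.
-/
import Cfsg.Agent.Lib.SuzMult.ListMat
import Cfsg.Agent.Lib.SuzMult.CoverData
import Cfsg.Agent.Lib.CosetEnum.PresSuz
import Cfsg.Prelude.Def_KGroupFacts

set_option autoImplicit false
set_option maxRecDepth 1000000

namespace CfsgLib.SuzMult.Cover

open Matrix CfsgLib.G24 CfsgLib.CosetEnum

variable {R : Type} [CommRing R] [DecidableEq R]

/-- The identity as rows. -/
def idL : List (List R) := (List.range 12).map (unitL 12 1)

/-- The matrices of four equal factors. -/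
def four (M : List (List R)) : List (List (List R)) := [M, M, M, M]

/-- A matrix of order dividing four as a unit. -/
def unit4 (M : List (List R)) (h : okScal 12 (four M) 1 = true) : GL (Fin 12) R :=
  have e : matR 12 M * (matR 12 M * (matR 12 M * matR 12 M)) = 1 := by
    have := prod_eq_scal h
    simpa [four] using this
  ⟨matR 12 M, matR 12 M * (matR 12 M * matR 12 M), e, by rw [← e]; simp only [mul_assoc]⟩

theorem ok3 : ∀ x, okScal 12 (four (mats3.getD x idL)) 1 = true := by
  intro x
  by_cases hx : x < 7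
  · have key : ∀ x < 7, okScal 12 (four (mats3.getD x idL)) 1 = true := by decide +kernel
    exact key x hx
  · rw [List.getD_eq_default _ _ (show mats3.length ≤ x from not_lt.mp hx)]
    decide +kernel

theorem ok4 : ∀ x, okScal 12 (four (mats4.getD x idL)) 1 = true := by
  intro x
  by_cases hx : x < 7
  · have key : ∀ x < 7, okScal 12 (four (mats4.getD x idL)) 1 = true := by decide +kernel
    exact key x hx
  · rw [List.getD_eq_default _ _ (show mats4.length ≤ x from not_lt.mp hx)]
    decide +kernel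

/-- The ambient group. -/
abbrev Amb : Type := GL (Fin 12) (ZMod 3) × GL (Fin 12) K

/-- The generators. -/
noncomputable def el (x : ℕ) : Amb := (unit4 _ (ok3 x), unit4 _ (ok4 x))

/-- The word of the triangle. -/
def w4 : List ℕ := [1, 5, 6, 1, 5, 6, 1, 5, 6, 1, 5, 6, 1, 5, 6]

/-- The value of the triangle word, which generates the centre. -/
noncomputable def c0 : Amb := (w4.map el).prod

theorem coe_prod3 : ∀ w : List ℕ, (((w.map el).prod).1 : Matrix (Fin 12) (Fin 12) (ZMod 3)) =
    ((w.map fun x => mats3.getD x idL).map (matR 12)).prod := by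
  intro w
  induction w with
  | nil => rfl
  | cons x w ih =>
    simp only [List.map_cons, List.prod_cons, Prod.fst_mul, Units.val_mul, ih]
    rfl

theorem coe_prod4 : ∀ w : List ℕ, (((w.map el).prod).2 : Matrix (Fin 12) (Fin 12) K) =
    ((w.map fun x => mats4.getD x idL).map (matR 12)).prod := by
  intro w
  induction w with
  | nil => rfl
  | cons x w ih =>
    simp only [List.map_cons, List.prod_cons, Prod.snd_mul, Units.val_mul, ih]
    rfl

theorem c0_check : (okScal 12 (w4.map fun x => mats3.getD x idL) 2 &&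
    okScal 12 (w4.map fun x => mats4.getD x idL) K.v) = true := by
  decide +kernel

theorem coe_pow (i : ℕ) : ((c0 ^ i).1 : Matrix (Fin 12) (Fin 12) (ZMod 3)) = (2 : ZMod 3) ^ i • 1 ∧
    ((c0 ^ i).2 : Matrix (Fin 12) (Fin 12) K) = K.v ^ i • 1 := by
  have h := c0_check
  rw [Bool.and_eq_true] at h
  constructor
  · rw [Prod.pow_fst, Units.val_pow_eq_pow_val, c0, coe_prod3, prod_eq_scal h.1, smul_pow, one_pow]
  · rw [Prod.pow_snd, Units.val_pow_eq_pow_val, c0, coe_prod4, prod_eq_scal h.2, smul_pow, one_pow]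

theorem c0_central : c0 ∈ Subgroup.center Amb := by
  rw [Subgroup.mem_center_iff]
  intro g
  obtain ⟨h1, h2⟩ := coe_pow 1
  rw [pow_one] at h1 h2
  refine Prod.ext (Units.ext ?_) (Units.ext ?_)
  · rw [Prod.fst_mul, Prod.fst_mul, Units.val_mul, Units.val_mul, h1, Matrix.mul_smul, Matrix.smul_mul, one_mul,
      mul_one]
  · rw [Prod.snd_mul, Prod.snd_mul, Units.val_mul, Units.val_mul, h2, Matrix.mul_smul, Matrix.smul_mul, one_mul,
      mul_one]

theorem order_c0 : orderOf c0 = 6 := by
  have hne : ∀ i, i = 2 ∨ i = 3 → c0 ^ i ≠ 1 := by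
    intro i hi h
    obtain ⟨h1, h2⟩ := coe_pow i
    rw [h] at h1 h2
    rcases hi with rfl | rfl
    · exact (show (1 : K) ≠ K.v ^ 2 by decide) (by simpa using congrFun (congrFun h2 0) 0)
    · exact (show (1 : ZMod 3) ≠ (2 : ZMod 3) ^ 3 by decide) (by simpa using congrFun (congrFun h1 0) 0)
  have h6 : c0 ^ 6 = 1 := by
    obtain ⟨h1, h2⟩ := coe_pow 6
    refine Prod.ext (Units.ext ?_) (Units.ext ?_)
    · rw [h1, show (2 : ZMod 3) ^ 6 = 1 by decide, one_smul]; rfl
    · rw [h2, show K.v ^ 6 = 1 by decide, one_smul]; rfl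
  have hd := orderOf_dvd_of_pow_eq_one h6
  have n2 : ¬ orderOf c0 ∣ 2 := fun h => hne 2 (Or.inl rfl) (orderOf_dvd_iff_pow_eq_one.mp h)
  have n3 : ¬ orderOf c0 ∣ 3 := fun h => hne 3 (Or.inr rfl) (orderOf_dvd_iff_pow_eq_one.mp h)
  have key : ∀ d ≤ 6, d ∣ 6 → ¬ d ∣ 2 → ¬ d ∣ 3 → d = 6 := by decide
  exact key _ (Nat.le_of_dvd (by norm_num) hd) hd n2 n3

theorem rels_check : (List.range presSuz.rels.length).all (fun n =>
    okScal 12 ((presSuz.rels.getD n []).map fun x => mats3.getD x idL) ((2 : ZMod 3) ^ relExp.getD n 0) &&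
    okScal 12 ((presSuz.rels.getD n []).map fun x => mats4.getD x idL) (K.v ^ relExp.getD n 0)) = true := by
  decide +kernel

theorem rel_value (n : ℕ) (hn : n < presSuz.rels.length) :
    ((presSuz.rels.getD n []).map el).prod = c0 ^ relExp.getD n 0 := by
  have h := List.all_eq_true.mp rels_check n (List.mem_range.mpr hn)
  rw [Bool.and_eq_true] at h
  obtain ⟨h1, h2⟩ := coe_pow (relExp.getD n 0)
  exact Prod.ext (Units.ext (by rw [coe_prod3, prod_eq_scal h.1, h1]))
    (Units.ext (by rw [coe_prod4, prod_eq_scal h.2, h2]))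

theorem el_out {x : ℕ} (hx : ¬ x < 7) : el x = 1 := by
  have e3 : matR 12 (idL : List (List (ZMod 3))) = 1 := by decide +kernel
  have e4 : matR 12 (idL : List (List K)) = 1 := by decide +kernel
  refine Prod.ext (Units.ext ?_) (Units.ext ?_)
  · show matR 12 (mats3.getD x idL) = 1
    rw [List.getD_eq_default _ _ (show mats3.length ≤ x from not_lt.mp hx), e3]
  · show matR 12 (mats4.getD x idL) = 1
    rw [List.getD_eq_default _ _ (show mats4.length ≤ x from not_lt.mp hx), e4]

theorem el_sq (x : ℕ) : ∃ i, el x * el x = c0 ^ i := by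
  by_cases hx : x < 7
  · have key : ∀ x < 7, ∃ n ∈ List.range presSuz.rels.length, presSuz.rels.getD n [] = [x, x] := by decide +kernel
    obtain ⟨n, hn, e⟩ := key x hx
    refine ⟨relExp.getD n 0, ?_⟩
    rw [← rel_value n (List.mem_range.mp hn), e]
    simp
  · exact ⟨0, by rw [el_out hx, one_mul, pow_zero]⟩

/-- The scalars. -/
noncomputable def Z : Subgroup Amb := Subgroup.zpowers c0

theorem Z_le : Z ≤ Subgroup.center Amb := by
  rw [Z, Subgroup.zpowers_le]; exact c0_central

instance Z_normal : Z.Normal :=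
  ⟨fun n hn g => by rw [Subgroup.mem_center_iff.mp (Z_le hn) g, mul_inv_cancel_right]; exact hn⟩

theorem mk_rel {w : List ℕ} (hw : w ∈ presSuz.rels) :
    (w.map fun x => QuotientGroup.mk' Z (el x)).prod = 1 := by
  obtain ⟨n, hn, e⟩ := List.getElem_of_mem hw
  have h := rel_value n hn
  rw [List.getD_eq_getElem _ _ hn, e] at h
  have e1 : (w.map fun x => QuotientGroup.mk' Z (el x)).prod = QuotientGroup.mk' Z (w.map el).prod := by
    rw [map_list_prod, List.map_map]; rfl
  rw [e1, h]
  exact (QuotientGroup.eq_one_iff _).mpr ((Subgroup.zpowers c0).pow_mem (Subgroup.mem_zpowers c0) _)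

theorem mk_sq (x : ℕ) : QuotientGroup.mk' Z (el x) * QuotientGroup.mk' Z (el x) = 1 := by
  obtain ⟨i, h⟩ := el_sq x
  rw [← map_mul, h]
  exact (QuotientGroup.eq_one_iff _).mpr ((Subgroup.zpowers c0).pow_mem (Subgroup.mem_zpowers c0) _)

/-- The map from the presented group to the matrices modulo scalars. -/
noncomputable def rho : presSuz.Grp →* Amb ⧸ Z :=
  PresentedGroup.toGroup (f := (fun x => QuotientGroup.mk' Z (el x)) ∘ presSuz.idx)
    (presSuz.lift_rel mk_sq fun _ hw => mk_rel hw)

theorem rho_σ (x : ℕ) : rho (presSuz.σ x) = QuotientGroup.mk' Z (el x) := by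
  by_cases hx : x < 7
  · rw [Pres.σ, if_pos (show x < presSuz.k from hx)]
    have hid : ∀ i < 7, presSuz.idx (presSuz.gen i) = i := by decide
    exact (PresentedGroup.toGroup.of _).trans (congrArg (fun i => QuotientGroup.mk' Z (el i)) (hid x hx))
  · rw [Pres.σ, if_neg (show ¬ x < presSuz.k from hx), map_one, el_out hx, map_one]

/-- The pairs of a matrix and an element of the group. -/
noncomputable def pair (x : ℕ) : Amb × presSuz.Grp := (el x, presSuz.σ x)

/-- The cover. -/
noncomputable def Cov : Subgroup (Amb × presSuz.Grp) := Subgroup.closure (Set.range pair)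

/-- A generator of the cover. -/
noncomputable def gen (x : ℕ) : Cov := ⟨pair x, Subgroup.subset_closure ⟨x, rfl⟩⟩

/-- The projection. -/
noncomputable def proj : Cov →* presSuz.Grp := (MonoidHom.snd Amb presSuz.Grp).comp Cov.subtype

theorem proj_surjective : Function.Surjective proj := by
  rw [← MonoidHom.range_eq_top, eq_top_iff, ← presSuz.gen_closure, Subgroup.closure_le]
  rintro _ ⟨x, -, rfl⟩
  exact ⟨gen x, rfl⟩

theorem compat (p : Cov) : QuotientGroup.mk' Z (p : Amb × presSuz.Grp).1 = rho (p : Amb × presSuz.Grp).2 := by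
  have h : Cov ≤ ((QuotientGroup.mk' Z).comp (MonoidHom.fst Amb presSuz.Grp)).eqLocus
      (rho.comp (MonoidHom.snd Amb presSuz.Grp)) := by
    rw [Cov, Subgroup.closure_le]
    rintro _ ⟨x, rfl⟩
    exact (rho_σ x).symm
  exact h p.2

theorem gen_prod (w : List ℕ) : (((w.map gen).prod : Cov) : Amb × presSuz.Grp) =
    ((w.map el).prod, (w.map presSuz.σ).prod) := by
  induction w with
  | nil => rfl
  | cons x w ih => rw [List.map_cons, List.prod_cons, Subgroup.coe_mul, ih]; rfl

/-- The central element. -/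
noncomputable def cc : Cov := (w4.map gen).prod

theorem cc_coe : (cc : Amb × presSuz.Grp) = (c0, 1) := by
  rw [cc, gen_prod, presSuz.rels_one (by decide +kernel)]
  rfl

theorem cc_pow (i : ℕ) : ((cc ^ i : Cov) : Amb × presSuz.Grp) = (c0 ^ i, 1) := by
  rw [SubmonoidClass.coe_pow, cc_coe, Prod.pow_mk, one_pow]

theorem order_cc : orderOf cc = 6 := by
  rw [← order_c0, ← orderOf_injective Cov.subtype Subtype.coe_injective cc, Subgroup.coe_subtype, cc_coe]
  exact orderOf_injective (MonoidHom.inl Amb presSuz.Grp) (fun a b h => congrArg Prod.fst h) c0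

theorem ker_eq : proj.ker = Subgroup.zpowers cc := by
  refine le_antisymm (fun p hp => ?_) ?_
  · have h2 : (p : Amb × presSuz.Grp).2 = 1 := hp
    have h1 : (p : Amb × presSuz.Grp).1 ∈ Z := (QuotientGroup.eq_one_iff _).mp
      ((compat p).trans (by rw [h2, map_one]))
    obtain ⟨i, hi⟩ := Subgroup.mem_zpowers_iff.mp h1
    refine Subgroup.mem_zpowers_iff.mpr ⟨i, Subtype.ext (Prod.ext ?_ ?_)⟩
    · rw [SubgroupClass.coe_zpow, cc_coe]; exact hi
    · rw [SubgroupClass.coe_zpow, cc_coe, h2]; exact one_zpow i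
  · rw [Subgroup.zpowers_le]
    show (cc : Amb × presSuz.Grp).2 = 1
    rw [cc_coe]

theorem cc_central : cc ∈ Subgroup.center Cov := by
  rw [Subgroup.mem_center_iff]
  intro g
  refine Subtype.ext (Prod.ext ?_ ?_)
  · rw [Subgroup.coe_mul, Subgroup.coe_mul, cc_coe]
    exact Subgroup.mem_center_iff.mp c0_central _
  · rw [Subgroup.coe_mul, Subgroup.coe_mul, cc_coe, Prod.snd_mul, Prod.snd_mul, one_mul, mul_one]

theorem word_value (n : ℕ) (hn : n < presSuz.rels.length) :
    ((presSuz.rels.getD n []).map gen).prod = cc ^ relExp.getD n 0 := by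
  refine Subtype.ext ?_
  rw [gen_prod, cc_pow, rel_value n hn, presSuz.rels_one (List.getD_eq_getElem _ _ hn ▸ List.getElem_mem hn)]

/-- The long relator. -/
def w5 : List ℕ := [1, 2, 3, 2, 3, 1, 2, 3, 2, 3, 1, 2, 3, 2, 3, 1, 2, 3, 2, 3, 1, 2, 3, 2, 3, 4]

theorem cc_mem_commutator : cc ∈ commutator Cov := by
  rw [← Abelianization.ker_of, MonoidHom.mem_ker]
  set of := (Abelianization.of : Cov →* Abelianization Cov)
  set z := of cc with hz
  have val : ∀ w i, (∃ n ∈ List.range presSuz.rels.length, presSuz.rels.getD n [] = w ∧ relExp.getD n 0 = i) →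
      (w.map fun x => of (gen x)).prod = z ^ i := by
    rintro w i ⟨n, hn, rfl, rfl⟩
    rw [hz, ← map_pow, ← word_value n (List.mem_range.mp hn), map_list_prod, List.map_map]
    rfl
  have h1 : of (gen 1) ^ 2 = 1 := by simpa [pow_two] using val [1, 1] 0 (by decide +kernel)
  have h2 : of (gen 2) ^ 2 = 1 := by simpa [pow_two] using val [2, 2] 0 (by decide +kernel)
  have h3 : of (gen 3) ^ 2 = z ^ 3 := by simpa [pow_two] using val [3, 3] 3 (by decide +kernel)
  have h4 : of (gen 4) ^ 2 = z ^ 3 := by simpa [pow_two] using val [4, 4] 3 (by decide +kernel)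
  have h5 : of (gen 5) ^ 2 = 1 := by simpa [pow_two] using val [5, 5] 0 (by decide +kernel)
  have h6 : of (gen 6) ^ 2 = 1 := by simpa [pow_two] using val [6, 6] 0 (by decide +kernel)
  have z6 : z ^ 6 = 1 := by rw [hz, ← map_pow, ← order_cc, pow_orderOf_eq_one, map_one]
  set a := of (gen 1)
  set b := of (gen 2)
  set c := of (gen 3)
  set d := of (gen 4)
  have z2 : z ^ 2 = 1 := by
    have hzv : z = (a * of (gen 5) * of (gen 6)) ^ 5 := by
      rw [hz, cc, map_list_prod, List.map_map]
      simp [w4, a, pow_succ, mul_assoc]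
    rw [hzv, ← pow_mul, show 5 * 2 = 2 * 5 from rfl, pow_mul]
    simp only [mul_pow, h1, h5, h6, one_mul, one_pow]
  have hw : ((a * b * c * b * c) ^ 5 * d) ^ 3 = 1 := by
    rw [← pow_zero z, ← val (w5 ++ w5 ++ w5) 0 (by decide +kernel)]
    simp [w5, a, b, c, d, pow_succ, mul_assoc]
  have hsq : (((a * b * c * b * c) ^ 5 * d) ^ 3) ^ 2 = (z ^ 3) ^ 33 := by
    calc (((a * b * c * b * c) ^ 5 * d) ^ 3) ^ 2
        = ((a ^ 2 * (b ^ 2 * b ^ 2) * (c ^ 2 * c ^ 2)) ^ 5 * d ^ 2) ^ 3 := by
          simp only [← pow_mul, mul_pow, ← mul_assoc]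
          ac_rfl
      _ = (z ^ 3) ^ 33 := by
          rw [h1, h2, h3, h4, one_mul, one_mul, one_mul]
          group
  rw [hw, one_pow] at hsq
  have hz3 : z ^ 3 = 1 := by
    rw [← pow_mul, show 3 * 33 = 6 * 16 + 3 from rfl, pow_add, pow_mul, z6, one_pow, one_mul] at hsq
    exact hsq.symm
  calc z = z ^ 3 * (z ^ 2)⁻¹ := by group
    _ = 1 := by rw [hz3, z2, inv_one, mul_one]

theorem stem : Cfsg.IsStemExtension proj := by
  refine ⟨proj_surjective, ?_, ?_⟩ <;> rw [ker_eq, Subgroup.zpowers_le]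
  · exact cc_central
  · exact cc_mem_commutator

theorem ker_card : Nat.card proj.ker = 6 ∧ IsCyclic proj.ker := by
  rw [ker_eq]
  exact ⟨(Nat.card_zpowers cc).trans order_cc, inferInstance⟩

end CfsgLib.SuzMult.Cover
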