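/-
The kernel of a stem extension of the presented sporadic Suzuki group has order dividing six.
-/
import Cfsg.Agent.Lib.SuzMult.Basic
import Cfsg.Agent.Lib.CosetEnum.SuzMF.Main
import Cfsg.Agent.Lib.CosetEnum.SuzMG.Main
import Cfsg.Agent.Lib.CosetEnum.SuzMH.Main
import Cfsg.Agent.Lib.CosetEnum.J2Iso
import Cfsg.Agent.S1694
import Cfsg.Agent.S2040

set_option autoImplicit false
set_option maxRecDepth 1000000

namespace CfsgLib.SuzMult

open CfsgLib.CosetEnum
open scoped commutatorElement

/-- A word conjugated back and forth by a letter. -/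
def comWord (w : List ℕ) (x : ℕ) : List ℕ := w ++ [x] ++ w.reverse ++ [x]

/-- The relators kept exact. -/
def exactW : List (List ℕ) :=
  presSuz.rels.filter (fun w => w.all fun x => Nat.blt x 5) ++ [[5, 5], [6, 6], coxWord 1 5 3, coxWord 1 6 3]

/-- The word of the triangle. -/
def w4 : List ℕ := [1, 5, 6, 1, 5, 6, 1, 5, 6, 1, 5, 6, 1, 5, 6]

/-- Every relator is one of the exact ones or a commutator of a relator of the group with a letter. -/
def okShape (extra : List (List ℕ)) (rels : List (List ℕ)) : Bool :=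
  rels.all fun r => exactW.contains r || extra.contains r ||
    presSuz.rels.any fun w => (List.range 7).any fun x => decide (r = comWord w x)

theorem cardSuz : Nat.card presSuz.Grp = 448345497600 := Cfsg.Agent.S1694.result.2

theorem perfectJ2 : commutator presJ2.Grp = ⊤ := by
  obtain ⟨e⟩ := J2Iso.isoJ2
  have := CfsgHJ.isSimple_J2
  have h : commutator Cfsg.Spor.J2 = ⊤ := by
    refine (IsSimpleGroup.eq_bot_or_eq_top_of_normal _ inferInstance).resolve_left fun hb => ?_
    obtain ⟨a, b, hne⟩ := CfsgHJ.exists_noncomm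
    have hm : ⁅a, b⁆ ∈ commutator Cfsg.Spor.J2 :=
      Subgroup.commutator_mem_commutator (Subgroup.mem_top _) (Subgroup.mem_top _)
    rw [hb, Subgroup.mem_bot, commutatorElement_eq_one_iff_commute] at hm
    exact hne hm
  rw [commutator_def] at h ⊢
  have hm := congrArg (Subgroup.map e.symm.toMonoidHom) h
  rwa [Subgroup.map_commutator, Subgroup.map_top_of_surjective _ e.symm.surjective] at hm

/-- The copy of the Hall–Janko group. -/
noncomputable def rhoJ : presJ2.Grp →* presSuz.Grp :=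
  PresentedGroup.toGroup (f := presSuz.σ ∘ presJ2.idx) (presJ2.lift_rel presSuz.σ_sq fun w hw => by
    have hc : (presJ2.rels.all fun w => presSuz.rels.contains w) = true := by decide +kernel
    exact presSuz.rels_one (List.contains_iff_mem.mp (List.all_eq_true.mp hc w hw)))

theorem rhoJ_σ {x : ℕ} (hx : x < 5) : rhoJ (presJ2.σ x) = presSuz.σ x := by
  rw [Pres.σ, if_pos (show x < presJ2.k from hx)]
  exact (PresentedGroup.toGroup.of _).trans (congrArg presSuz.σ (Nat.mod_eq_of_lt hx))

variable {Γ : Type} [Group Γ] [Finite Γ] (φ : Γ →* presSuz.Grp)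

/-- The lifts on the Hall–Janko subgroup, up to a subgroup of order at most two. -/
theorem exists_part (hs : Function.Surjective φ) (hc : φ.ker ≤ Subgroup.center Γ) :
    ∃ (N : Subgroup Γ) (τ : ℕ → Γ), Nat.card N ≤ 2 ∧ N ≤ φ.ker ∧ (∀ x < 5, φ (τ x) = presSuz.σ x) ∧
      ∀ w ∈ presJ2.rels, (∀ x ∈ w, x < 5) → (w.map τ).prod ∈ N := by
  classical
  have : Finite presJ2.Grp := J2Iso.upper.1
  let P : Subgroup (Γ × presJ2.Grp) :=
    ((φ.comp (MonoidHom.fst Γ presJ2.Grp)).eqLocus (rhoJ.comp (MonoidHom.snd Γ presJ2.Grp)))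
  let π : P →* presJ2.Grp := (MonoidHom.snd Γ presJ2.Grp).comp P.subtype
  have hπs : Function.Surjective π := fun g => by
    obtain ⟨y, hy⟩ := hs (rhoJ g)
    exact ⟨⟨(y, g), hy⟩, rfl⟩
  have hmem : ∀ p : P, φ (p : Γ × presJ2.Grp).1 = rhoJ (p : Γ × presJ2.Grp).2 := fun p => p.2
  have hπc : π.ker ≤ Subgroup.center P := fun p hp => Subgroup.mem_center_iff.mpr fun q => by
    have hp2 : (p : Γ × presJ2.Grp).2 = 1 := hp
    have hp1 : (p : Γ × presJ2.Grp).1 ∈ φ.ker := by rw [MonoidHom.mem_ker, hmem p, hp2, map_one]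
    refine Subtype.ext (Prod.ext ?_ ?_)
    · exact Subgroup.mem_center_iff.mp (hc hp1) _
    · show (q : Γ × presJ2.Grp).2 * (p : Γ × presJ2.Grp).2 = (p : Γ × presJ2.Grp).2 * (q : Γ × presJ2.Grp).2
      rw [hp2, mul_one, one_mul]
  let D : Subgroup P := commutator P
  have hDmap : D.map π = ⊤ := by
    rw [show D = commutator P from rfl, commutator_def, Subgroup.map_commutator,
      Subgroup.map_top_of_surjective _ hπs]
    exact perfectJ2
  let σD : D →* presJ2.Grp := π.domRestrict D
  have hσs : Function.Surjective σD := fun g => by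
    obtain ⟨p, hp, e⟩ := (hDmap.symm ▸ Subgroup.mem_top g : g ∈ D.map π)
    exact ⟨⟨p, hp⟩, e⟩
  have hσc : σD.ker ≤ Subgroup.center D := fun p hp => Subgroup.mem_center_iff.mpr fun q =>
    Subtype.ext (Subgroup.mem_center_iff.mp (hπc (show (p : P) ∈ π.ker from hp)) q)
  have hσk : σD.ker ≤ commutator D := by
    intro p _
    have h1 : (p : P) ∈ ⁅D, D⁆ := closure_comm π hπc hDmap p.2
    have h2 : (commutator D).map D.subtype = ⁅D, D⁆ := by
      rw [commutator_def, Subgroup.map_commutator, ← MonoidHom.range_eq_map, Subgroup.range_subtype]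
    obtain ⟨q, hq, e⟩ := (h2.symm ▸ h1 : (p : P) ∈ (commutator D).map D.subtype)
    rwa [← Subtype.ext (e : (q : P) = p)]
  obtain ⟨e⟩ := J2Iso.isoJ2
  have hker : (e.toMonoidHom.comp σD).ker = σD.ker := by
    ext x
    simp [MonoidHom.mem_ker]
  obtain ⟨π2, hπ2⟩ := Cfsg.Agent.S2040.result.2 D (e.toMonoidHom.comp σD)
    ⟨e.surjective.comp hσs, hker ▸ hσc, hker ▸ hσk⟩
  have h2 : Nat.card σD.ker ≤ 2 := by
    have h := Nat.card_le_card_of_surjective π2 hπ2
    rw [hker] at h
    simpa using h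
  let fstD : D →* Γ := (MonoidHom.fst Γ presJ2.Grp).comp (P.subtype.comp D.subtype)
  choose s hs2 using fun x : ℕ => hσs (presJ2.σ x)
  refine ⟨σD.ker.map fstD, fun x => fstD (s x), ?_, ?_, ?_, ?_⟩
  · refine le_trans ?_ h2
    exact Nat.card_le_card_of_surjective (fstD.subgroupMap σD.ker) (fstD.subgroupMap_surjective _)
  · rintro _ ⟨p, hp, rfl⟩
    rw [MonoidHom.mem_ker]
    show φ ((p : P) : Γ × presJ2.Grp).1 = 1
    rw [hmem, show ((p : P) : Γ × presJ2.Grp).2 = 1 from hp, map_one]
  · intro x hx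
    show φ (((s x : D) : P) : Γ × presJ2.Grp).1 = presSuz.σ x
    rw [hmem, ← rhoJ_σ hx]
    exact congrArg rhoJ (hs2 x)
  · intro w hw _
    refine ⟨(w.map s).prod, ?_, ?_⟩
    · show σD (w.map s).prod = 1
      rw [prod_map σD s presJ2.σ w fun x _ => hs2 x]
      exact presJ2.rels_one hw
    · exact prod_map fstD s _ w fun x _ => rfl

/-- Lifts satisfying the exact relators, given such lifts on the Hall–Janko subgroup. -/
theorem exists_lifts (hs : Function.Surjective φ) (hc : φ.ker ≤ Subgroup.center Γ) (t : ℕ → Γ)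
    (ht : ∀ x < 5, φ (t x) = presSuz.σ x) (hrel : ∀ w ∈ presJ2.rels, (∀ x ∈ w, x < 5) → (w.map t).prod = 1) :
    ∃ τ : ℕ → Γ, (∀ x, τ x * τ x = 1) ∧ (∀ x, φ (τ x) = presSuz.σ x) ∧ ∀ w ∈ exactW, (w.map τ).prod = 1 := by
  have hsq : ∀ x < 5, t x * t x = 1 := fun x hx => by
    have key : ∀ x < 5, coxWord x x 1 ∈ presJ2.rels ∧ (∀ y ∈ coxWord x x 1, y < 5) := by decide +kernel
    have h := hrel _ (key x hx).1 (key x hx).2
    rw [prod_coxWord, pow_one] at h
    exact h
  have hleaf : ∀ z, z = 5 ∨ z = 6 → ∃ y : Γ, y * y = 1 ∧ φ y = presSuz.σ z ∧ (t 1 * y) ^ 3 = 1 := by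
    intro z hz
    have hrel3 : (presSuz.σ 1 * presSuz.σ z) ^ 3 = 1 := by
      rw [← prod_coxWord]
      rcases hz with rfl | rfl <;> exact presSuz.rels_one (by decide +kernel)
    obtain ⟨y0, hy0⟩ := hs (presSuz.σ z)
    set x := t 1 * y0
    have hb := hsq 1 (by norm_num)
    set y1 := x * t 1 * x⁻¹
    have hy1 : y1 * y1 = 1 := by
      calc x * t 1 * x⁻¹ * (x * t 1 * x⁻¹) = x * (t 1 * t 1) * x⁻¹ := by group
        _ = 1 := by rw [hb]; group
    have hφ1 : φ y1 = presSuz.σ z := by
      simp only [y1, x, map_mul, map_inv, hy0, ht 1 (by norm_num)]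
      have hb' := presSuz.σ_sq 1
      have hz' := presSuz.σ_sq z
      set B := presSuz.σ 1
      set Z := presSuz.σ z
      rw [mul_inv_rev, inv_eq_of_mul_eq_one_right hb', inv_eq_of_mul_eq_one_right hz']
      have h6 : B * Z * B * Z * B * Z = 1 := by
        rw [← hrel3, pow_succ, pow_succ, pow_one]; group
      have h5 : B * Z * B * Z * B = Z := by
        have := eq_inv_of_mul_eq_one_left h6
        rwa [inv_eq_of_mul_eq_one_right hz'] at this
      calc B * Z * B * (Z * B) = B * Z * B * Z * B := by group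
        _ = Z := h5
    set k := (t 1 * y1) ^ 3 with hk
    have hkK : k ∈ φ.ker := by rw [hk, MonoidHom.mem_ker, map_pow, map_mul, hφ1, ht 1 (by norm_num), hrel3]
    have hkk : k * k = 1 := card_comm hb hy1 (hc hkK) rfl
    have hkc : Commute (t 1 * y1) k := Subgroup.mem_center_iff.mp (hc hkK) _
    have hyc : Commute y1 k := Subgroup.mem_center_iff.mp (hc hkK) _
    refine ⟨y1 * k, ?_, ?_, ?_⟩
    · rw [hyc.symm.mul_mul_mul_comm, hy1, hkk, one_mul]
    · rw [map_mul, hφ1, MonoidHom.mem_ker.mp hkK, mul_one]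
    · rw [← mul_assoc, hkc.mul_pow, ← hk, ← pow_succ', show 3 + 1 = 2 * 2 from rfl, pow_mul, pow_two k, hkk, one_pow]
  obtain ⟨f, hf1, hf2, hf3⟩ := hleaf 5 (Or.inl rfl)
  obtain ⟨g, hg1, hg2, hg3⟩ := hleaf 6 (Or.inr rfl)
  let τ : ℕ → Γ := fun x => if x < 5 then t x else if x = 5 then f else if x = 6 then g else 1
  refine ⟨τ, fun x => ?_, fun x => ?_, fun w hw => ?_⟩
  · simp only [τ]
    split_ifs with h1 h2 h3
    · exact hsq x h1
    · exact hf1
    · exact hg1
    · exact one_mul 1
  · simp only [τ]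
    split_ifs with h1 h2 h3
    · exact ht x h1
    · rw [h2, hf2]
    · rw [h3, hg2]
    · rw [map_one, Pres.σ, if_neg (show ¬ x < presSuz.k from fun h => by
        have : x < 7 := h
        omega)]
  rw [exactW, List.mem_append] at hw
  rcases hw with hw | hw
  · rw [List.mem_filter, List.all_eq_true] at hw
    have h5 : ∀ x ∈ w, x < 5 := fun x hx => blt_iff.mp (hw.2 x hx)
    rw [show w.map τ = w.map t from List.map_congr_left fun x hx => if_pos (h5 x hx)]
    have key : (presSuz.rels.all fun w => !(w.all fun x => Nat.blt x 5) || presJ2.rels.contains w) = true := by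
      decide +kernel
    have h := List.all_eq_true.mp key w hw.1
    rw [List.all_eq_true.mpr hw.2] at h
    exact hrel w (List.contains_iff_mem.mp (by simpa using h)) h5
  · simp only [List.mem_cons, List.not_mem_nil, or_false] at hw
    rcases hw with rfl | rfl | rfl | rfl
    · simpa [τ] using hf1
    · simpa [τ] using hg1
    · rw [prod_coxWord]; simpa [τ] using hf3
    · rw [prod_coxWord]; simpa [τ] using hg3

theorem card_five {τ : ℕ → Γ} (hτ : ∀ x, τ x * τ x = 1) (hex : ∀ w ∈ exactW, (w.map τ).prod = 1) :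
    Nat.card (Subgroup.closure (τ '' Set.Iio 5)) ≤ 604800 := by
  have hrel : ∀ w ∈ presJ2.rels, (w.map τ).prod = 1 := by
    have key : (presJ2.rels.all fun w => exactW.contains w) = true := by decide +kernel
    exact fun w hw => hex w (List.contains_iff_mem.mp (List.all_eq_true.mp key w hw))
  let f : presJ2.Grp →* Γ := PresentedGroup.toGroup (f := τ ∘ presJ2.idx) (presJ2.lift_rel hτ hrel)
  have : Finite presJ2.Grp := J2Iso.upper.1
  have hle : Subgroup.closure (τ '' Set.Iio 5) ≤ f.range := by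
    rw [Subgroup.closure_le]
    rintro _ ⟨x, hx, rfl⟩
    exact ⟨PresentedGroup.of (Fin.ofNat 5 x),
      (PresentedGroup.toGroup.of _).trans (congrArg τ (Nat.mod_eq_of_lt hx))⟩
  exact (Subgroup.card_le_of_le hle).trans
    ((Nat.card_le_card_of_surjective _ f.rangeRestrict_surjective).trans J2Iso.upper.2)

omit [Finite Γ] in
theorem shape_one {τ : ℕ → Γ} (hτ : ∀ x, τ x * τ x = 1) (hφ : ∀ x, φ (τ x) = presSuz.σ x)
    (hc : φ.ker ≤ Subgroup.center Γ) (hex : ∀ w ∈ exactW, (w.map τ).prod = 1) {extra rels : List (List ℕ)}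
    (hextra : ∀ w ∈ extra, (w.map τ).prod = 1) (h : okShape extra rels = true) :
    ∀ w ∈ rels, (w.map τ).prod = 1 := by
  intro r hr
  have h' := List.all_eq_true.mp h r hr
  rw [Bool.or_eq_true, Bool.or_eq_true] at h'
  rcases h' with (h' | h') | h'
  · exact hex r (List.contains_iff_mem.mp h')
  · exact hextra r (List.contains_iff_mem.mp h')
  obtain ⟨w, hw, h'⟩ := List.any_eq_true.mp h'
  obtain ⟨x, -, h'⟩ := List.any_eq_true.mp h'
  rw [of_decide_eq_true h', comWord]
  have hk : (w.map τ).prod ∈ Subgroup.center Γ := hc (by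
    rw [MonoidHom.mem_ker, prod_map φ τ presSuz.σ w fun y _ => hφ y]
    exact presSuz.rels_one hw)
  simp only [List.map_append, List.prod_append, List.map_cons, List.map_nil, List.prod_cons, List.prod_nil, mul_one]
  rw [prod_reverse_inv τ hτ, ← Subgroup.mem_center_iff.mp hk (τ x), mul_assoc (τ x), mul_inv_cancel, mul_one, hτ]

/-- With all seven lifts involutions the kernel has order one or three. -/
theorem card_ker_aux (hs : Function.Surjective φ) (hc : φ.ker ≤ Subgroup.center Γ) (hcomm : φ.ker ≤ commutator Γ)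
    {τ : ℕ → Γ} (hτ : ∀ x, τ x * τ x = 1) (hφ : ∀ x, φ (τ x) = presSuz.σ x)
    (hex : ∀ w ∈ exactW, (w.map τ).prod = 1) : Nat.card φ.ker = 1 ∨ Nat.card φ.ker = 3 := by
  have hmap : (Subgroup.closure (τ '' Set.Iio 7)).map φ = ⊤ := by
    rw [eq_top_iff, ← presSuz.gen_closure, Subgroup.closure_le]
    rintro _ ⟨x, hx, rfl⟩
    exact ⟨τ x, Subgroup.subset_closure ⟨x, hx, rfl⟩, hφ x⟩
  have htop := eq_top_of_map φ hc hcomm hmap
  have h5 : Finite (Subgroup.closure (τ '' Set.Iio 5)) ∧ Nat.card (Subgroup.closure (τ '' Set.Iio 5)) ≤ 604800 :=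
    ⟨inferInstance, card_five hτ hex⟩
  have h6 := step τ hτ SuzMF.sheet (n := 6) (m := 5) rfl rfl (by norm_num) (by decide +kernel)
    (shape_one φ hτ hφ hc hex (extra := []) (fun _ h => absurd h List.not_mem_nil) (by decide +kernel)) h5
  have hcard := Subgroup.card_eq_card_quotient_mul_card_subgroup φ.ker
  rw [Nat.card_congr (QuotientGroup.quotientKerEquivOfSurjective φ hs).toEquiv, cardSuz] at hcard
  have bound : ∀ S : Sheet, S.D.k = 7 → S.hw = (List.range 6).map (fun i => [i]) →
      (S.rels.all fun w => w.all fun x => decide (x < 7)) = true → (∀ w ∈ S.rels, (w.map τ).prod = 1) →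
      Nat.card φ.ker * 448345497600 ≤ S.T.n * (416 * 604800) := by
    intro S hk hhw hlet hrels
    have h7 := step τ hτ S (n := 7) (m := 6) hk hhw (by norm_num) hlet hrels h6
    rw [htop, Subgroup.card_top, show SuzMF.sheet.T.n = 416 from rfl] at h7
    rw [mul_comm, ← hcard]
    exact h7.2
  have hG := bound SuzMG.sheet rfl rfl (by decide +kernel)
    (shape_one φ hτ hφ hc hex (extra := []) (fun _ h => absurd h List.not_mem_nil) (by decide +kernel))
  rw [show SuzMG.sheet.T.n = 5346 from rfl] at hG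
  have hpos : 0 < Nat.card φ.ker := Nat.card_pos
  have hle3 : Nat.card φ.ker ≤ 3 := by omega
  by_contra hne
  have h2 : Nat.card φ.ker = 2 := by omega
  have hH := bound SuzMH.sheet rfl rfl (by decide +kernel)
    (shape_one φ hτ hφ hc hex (extra := [w4 ++ w4]) (fun w hw => by
      rw [List.mem_singleton.mp hw, List.map_append, List.prod_append]
      have hm : (w4.map τ).prod ∈ φ.ker := by
        rw [MonoidHom.mem_ker, prod_map φ τ presSuz.σ w4 fun y _ => hφ y]
        exact presSuz.rels_one (by decide +kernel)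
      have := pow_card_eq_one' (x := (⟨_, hm⟩ : φ.ker))
      rw [h2, pow_two] at this
      exact congrArg Subtype.val this) (by decide +kernel))
  rw [show SuzMH.sheet.T.n = 1782 from rfl] at hH
  omega

/-- The kernel of a stem extension has order one, two, three or six. -/
theorem card_ker (hs : Function.Surjective φ) (hc : φ.ker ≤ Subgroup.center Γ) (hcomm : φ.ker ≤ commutator Γ) :
    Nat.card φ.ker = 1 ∨ Nat.card φ.ker = 2 ∨ Nat.card φ.ker = 3 ∨ Nat.card φ.ker = 6 := by
  obtain ⟨N, t, hN2, hNK, ht, hrelN⟩ := exists_part φ hs hc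
  have hNc : N ≤ Subgroup.center Γ := hNK.trans hc
  have : N.Normal := ⟨fun n hn g => by
    rw [Subgroup.mem_center_iff.mp (hNc hn) g, mul_inv_cancel_right]; exact hn⟩
  let q := QuotientGroup.mk' N
  let ψ : Γ ⧸ N →* presSuz.Grp := QuotientGroup.lift N φ hNK
  have hψs : Function.Surjective ψ := fun g => by
    obtain ⟨y, hy⟩ := hs g
    exact ⟨q y, hy⟩
  have hψk : ∀ y, q y ∈ ψ.ker → y ∈ φ.ker := fun y hy => hy
  have hψc : ψ.ker ≤ Subgroup.center (Γ ⧸ N) := fun z hz => Subgroup.mem_center_iff.mpr fun u => by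
    obtain ⟨y, rfl⟩ := QuotientGroup.mk'_surjective N z
    obtain ⟨v, rfl⟩ := QuotientGroup.mk'_surjective N u
    rw [← map_mul, ← map_mul]
    exact congrArg q (Subgroup.mem_center_iff.mp (hc (hψk y hz)) v)
  have hψm : ψ.ker ≤ commutator (Γ ⧸ N) := fun z hz => by
    obtain ⟨y, rfl⟩ := QuotientGroup.mk'_surjective N z
    have h := Subgroup.mem_map_of_mem q (hcomm (hψk y hz))
    rwa [commutator_def, Subgroup.map_commutator, Subgroup.map_top_of_surjective _ (QuotientGroup.mk'_surjective N),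
      ← commutator_def] at h
  obtain ⟨τ, hτ, hφ, hex⟩ := exists_lifts ψ hψs hψc (fun x => q (t x)) (fun x hx => ht x hx) fun w hw hw5 => by
    rw [← prod_map q t (fun x => q (t x)) w fun _ _ => rfl]
    exact (QuotientGroup.eq_one_iff _).mpr (hrelN w hw hw5)
  have h := card_ker_aux ψ hψs hψc hψm hτ hφ hex
  have c1 := Subgroup.card_eq_card_quotient_mul_card_subgroup φ.ker
  rw [Nat.card_congr (QuotientGroup.quotientKerEquivOfSurjective φ hs).toEquiv, cardSuz] at c1
  have c2 := Subgroup.card_eq_card_quotient_mul_card_subgroup ψ.ker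
  rw [Nat.card_congr (QuotientGroup.quotientKerEquivOfSurjective ψ hψs).toEquiv, cardSuz] at c2
  have c3 := Subgroup.card_eq_card_quotient_mul_card_subgroup N
  rw [c1, c2] at c3
  have hpos : 0 < Nat.card N := Nat.card_pos
  have hN : Nat.card N = 1 ∨ Nat.card N = 2 := by omega
  rcases h with h | h <;> rcases hN with hN | hN <;> rw [h, hN] at c3 <;> omega

end CfsgLib.SuzMult
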